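/-
Characters of extraspecial groups.
* `comm_mem_center`, `exists_commutator_eq`
* `vanishes_off_center` : a nonlinear irreducible character vanishes off the centre
* `degree_eq` : its degree is `p ^ n`
-/
import Cfsg.Agent.Lib.Char.Linear
import Cfsg.Agent.Lib.CharApp.Schur

set_option autoImplicit false

namespace Cfsg.Agent.ExtraspecialChar

open Cfsg Cfsg.Agent.Char
open scoped ComplexConjugate

variable {P : Type*} [Group P] {p : ℕ} [Fact p.Prime] (hP : Cfsg.IsExtraspecial p P)

include hP in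
omit [Fact p.Prime] in
lemma comm_mem_center (x y : P) : x⁻¹ * y⁻¹ * x * y ∈ Subgroup.center P := by
  rw [← hP.1.2.2]
  have h := Subgroup.commutator_mem_commutator (Subgroup.mem_top x⁻¹) (Subgroup.mem_top y⁻¹)
  rw [commutatorElement_def, inv_inv, inv_inv] at h
  exact h

include hP in
/-- Every central element is a commutator with a given non-central element. -/
lemma exists_commutator_eq {x z : P} (hx : x ∉ Subgroup.center P) (hz : z ∈ Subgroup.center P) :
    ∃ y : P, x⁻¹ * y⁻¹ * x * y = z := by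
  let c : P →* Subgroup.center P :=
    { toFun := fun y => ⟨x⁻¹ * y⁻¹ * x * y, comm_mem_center hP x y⟩
      map_one' := by ext; simp
      map_mul' := fun y y' => by
        ext
        show x⁻¹ * (y * y')⁻¹ * x * (y * y') = x⁻¹ * y⁻¹ * x * y * (x⁻¹ * y'⁻¹ * x * y')
        have hc := Subgroup.mem_center_iff.mp (comm_mem_center hP x y)
        calc x⁻¹ * (y * y')⁻¹ * x * (y * y') = x⁻¹ * y'⁻¹ * x * (x⁻¹ * y⁻¹ * x * y) * y' := by group
          _ = (x⁻¹ * y⁻¹ * x * y) * (x⁻¹ * y'⁻¹ * x) * y' := by rw [hc]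
          _ = _ := by group }
  have hne : c.range ≠ ⊥ := by
    intro h
    apply hx
    rw [Subgroup.mem_center_iff]
    intro y
    have h1 : x⁻¹ * y⁻¹ * x * y = 1 :=
      congrArg Subtype.val ((Subgroup.eq_bot_iff_forall _).mp h (c y) ⟨y, rfl⟩)
    calc y * x = y * x * (x⁻¹ * y⁻¹ * x * y) := by rw [h1, mul_one]
      _ = x * y := by group
  haveI : Fact (Nat.card (Subgroup.center P)).Prime := ⟨by rw [hP.2]; exact Fact.out⟩
  obtain ⟨y, hy⟩ := ((Subgroup.eq_bot_or_eq_top_of_prime_card c.range).resolve_left hne).symm ▸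
    (Subgroup.mem_top (⟨z, hz⟩ : Subgroup.center P))
  exact ⟨y, congrArg Subtype.val hy⟩

variable [Fintype P]

include hP in
/-- A nonlinear irreducible character of an extraspecial group vanishes off the centre. -/
lemma vanishes_off_center {χ : P → ℂ} (hχ : IsIrrCharacter P χ) (hd : χ 1 ≠ 1)
    (x : P) (hx : x ∉ Subgroup.center P) : χ x = 0 := by
  obtain ⟨d, ρ, hρ, rfl⟩ := hχ
  haveI := hρ
  have hz : ∃ z ∈ Subgroup.center P, ρ z ≠ 1 := by
    by_contra h
    push Not at h
    haveI hab : ∀ g : P, ∃ a : ℂ, ρ g = a • 1 := fun g => by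
      refine CharApp.exists_scalar_of_commute ρ (ρ g) fun g' => ?_
      rw [← map_mul, ← map_mul, show g * g' = g' * g * (g⁻¹ * g'⁻¹ * g * g') by group, map_mul,
        h _ (comm_mem_center hP g g'), mul_one]
    haveI := CharApp.nontrivial_of_irr ρ
    obtain ⟨v, hv⟩ := exists_ne (0 : Fin d → ℂ)
    rcases CharApp.eq_bot_or_top_of_invariant ρ (Submodule.span ℂ {v}) (fun g w hw => by
      obtain ⟨a, ha⟩ := hab g
      rw [ha]; exact Submodule.smul_mem _ a hw) with hb | ht
    · exact hv (by simpa using hb)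
    · have h1 := finrank_span_singleton (K := ℂ) hv
      rw [ht, finrank_top] at h1
      exact hd (by rw [Representation.char_one, h1, Nat.cast_one])
  obtain ⟨z, hzc, hz1⟩ := hz
  obtain ⟨a, ha⟩ := CharApp.exists_scalar_of_mem_center ρ hzc
  obtain ⟨y, hy⟩ := exists_commutator_eq hP hx hzc
  have h1 : ρ.character (x * z) = ρ.character x := by
    rw [← hy, show x * (x⁻¹ * y⁻¹ * x * y) = y⁻¹ * x * y⁻¹⁻¹ by group]
    exact Representation.char_conj ρ x y⁻¹
  have h2 : ρ.character (x * z) = a * ρ.character x := by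
    show LinearMap.trace ℂ _ (ρ (x * z)) = a * LinearMap.trace ℂ _ (ρ x)
    rw [map_mul, ha, mul_smul_comm, mul_one, map_smul, smul_eq_mul]
  rw [h2] at h1
  by_contra hne
  have : a = 1 := mul_right_cancel₀ hne (h1.trans (one_mul _).symm)
  exact hz1 (by rw [ha, this, one_smul])

include hP in
/-- The degree of a nonlinear irreducible character is `p ^ n`. -/
lemma degree_eq {n : ℕ} (hcard : Nat.card P = p ^ (2 * n + 1)) {χ : P → ℂ} (hχ : IsIrrCharacter P χ)
    (hd : χ 1 ≠ 1) : χ 1 = (p : ℂ) ^ n := by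
  classical
  obtain ⟨d, hd0, hd'⟩ := IsIrrCharacter.exists_degree hχ
  have hoff := vanishes_off_center hP hχ hd
  obtain ⟨m, ρ, hρ, rfl⟩ := hχ
  haveI := hρ
  have hon : ∀ z ∈ Subgroup.center P, ‖ρ.character z‖ = (d : ℝ) := by
    intro z hz
    obtain ⟨a, ha⟩ := CharApp.exists_scalar_of_mem_center ρ hz
    have h := (norm_character_eq_iff ρ z).mpr ⟨a, ha⟩
    have hd'' : (Module.finrank ℂ (Fin m → ℂ) : ℂ) = (d : ℂ) := (Representation.char_one ρ).symm.trans hd'
    rw [h]; exact_mod_cast hd''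
  have h := classInner_irr_self (isIrrCharacter_character ρ)
  rw [classInner_self_eq, Complex.ofReal_eq_one,
    inv_mul_eq_one₀ (Nat.cast_ne_zero.mpr Nat.card_pos.ne')] at h
  rw [← Finset.sum_subset (Finset.subset_univ (Finset.univ.filter (· ∈ Subgroup.center P)))
    (fun x _ hx => by rw [hoff x (by simpa using hx)]; simp),
    Finset.sum_congr rfl (g := fun _ => (d : ℝ) ^ 2) (fun z hz => by rw [hon z (by simpa using hz)]),
    Finset.sum_const, ← Fintype.card_subtype, ← Nat.card_eq_fintype_card] at h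
  rw [show Nat.card {x // x ∈ Subgroup.center P} = p from hP.2, hcard, nsmul_eq_mul] at h
  have h' : p ^ (2 * n + 1) = p * d ^ 2 := by exact_mod_cast h
  have hp : 0 < p := (Fact.out : p.Prime).pos
  have h'' : d ^ 2 = (p ^ n) ^ 2 := by
    apply Nat.eq_of_mul_eq_mul_left hp
    rw [← h']; ring
  rw [hd', Nat.pow_left_injective (by norm_num) h'', Nat.cast_pow]

end Cfsg.Agent.ExtraspecialChar
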